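import Groth.Agent.Lib.Lead.RelFP.Geom

/-! # `Flatn.IsRelFP`: base change, finite direct images, exact sequences -/

set_option autoImplicit false
universe u
open CategoryTheory CategoryTheory.Limits AlgebraicGeometry Opposite TopologicalSpace TensorProduct

namespace Groth.Agent.LD.RelFP

open Groth.Agent.LD.QC

section BaseChange

variable {X S X' S' : Scheme.{u}} (f : X ⟶ S) (f' : X' ⟶ S') (g' : X' ⟶ X) (g : S' ⟶ S)

/-- affine pieces of a fibre product -/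
theorem isAffineOpen_inf_of_isPullback (hc : IsPullback g' f' f g) {V : S.Opens} {V' : S'.Opens}
    {U : X.Opens} (hV'V : V' ≤ g ⁻¹ᵁ V) (hUV : U ≤ f ⁻¹ᵁ V) (hV : IsAffineOpen V)
    (hV' : IsAffineOpen V') (hU : IsAffineOpen U) :
    IsAffineOpen (g' ⁻¹ᵁ U ⊓ f' ⁻¹ᵁ V') := by
  have : IsAffine _ := hV
  have : IsAffine _ := hV'
  have : IsAffine _ := hU
  exact .of_isIso (Scheme.Hom.isPullback_resLE hc hV'V hUV rfl).isoPullback.hom

/-- base change on affine pieces. -/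
theorem relFPOn_baseChange (hc : IsPullback g' f' f g) (F : X.Modules) [F.IsQuasicoherent]
    {V : S.Opens} {V' : S'.Opens} {U : X.Opens} (hV'V : V' ≤ g ⁻¹ᵁ V) (hUV : U ≤ f ⁻¹ᵁ V)
    (hV : IsAffineOpen V) (hV' : IsAffineOpen V') (hU : IsAffineOpen U)
    (hU' : IsAffineOpen (g' ⁻¹ᵁ U ⊓ f' ⁻¹ᵁ V'))
    (h : Flatn.RelFPOn f F ⟨U, hU⟩ ⟨V, hV⟩ hUV) :
    Flatn.RelFPOn f' ((Scheme.Modules.pullback g').obj F) ⟨g' ⁻¹ᵁ U ⊓ f' ⁻¹ᵁ V', hU'⟩ ⟨V', hV'⟩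
      inf_le_right := by
  have hpo := (isIso_pushoutSection_iff hc hV'V hUV rfl).1
    (isIso_pushoutSection_of_isAffineOpen hc hV'V hUV rfl hV hV' hU)
  letI i1 : Algebra Γ(S, V) Γ(X, U) := (f.appLE V U hUV).hom.toAlgebra
  letI i2 : Algebra Γ(S, V) Γ(S', V') := (g.appLE V V' hV'V).hom.toAlgebra
  letI i3 : Algebra Γ(X, U) Γ(X', g' ⁻¹ᵁ U ⊓ f' ⁻¹ᵁ V') :=
    (g'.appLE U (g' ⁻¹ᵁ U ⊓ f' ⁻¹ᵁ V') inf_le_left).hom.toAlgebra
  letI i4 : Algebra Γ(S', V') Γ(X', g' ⁻¹ᵁ U ⊓ f' ⁻¹ᵁ V') :=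
    (f'.appLE V' (g' ⁻¹ᵁ U ⊓ f' ⁻¹ᵁ V') inf_le_right).hom.toAlgebra
  letI i5 : Algebra Γ(S, V) Γ(X', g' ⁻¹ᵁ U ⊓ f' ⁻¹ᵁ V') :=
    ((g'.appLE U (g' ⁻¹ᵁ U ⊓ f' ⁻¹ᵁ V') inf_le_left).hom.comp (f.appLE V U hUV).hom).toAlgebra
  haveI : IsScalarTower Γ(S, V) Γ(X, U) Γ(X', g' ⁻¹ᵁ U ⊓ f' ⁻¹ᵁ V') := .of_algebraMap_eq' rfl
  haveI : IsScalarTower Γ(S, V) Γ(S', V') Γ(X', g' ⁻¹ᵁ U ⊓ f' ⁻¹ᵁ V') :=
    .of_algebraMap_eq' (congr($(hpo.1.1).hom))
  haveI : Algebra.IsPushout Γ(S, V) Γ(X, U) Γ(S', V') Γ(X', g' ⁻¹ᵁ U ⊓ f' ⁻¹ᵁ V') :=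
    CommRingCat.isPushout_iff_isPushout.mp hpo
  have e1 : g' ⁻¹ᵁ U ⊓ f' ⁻¹ᵁ V' ≤ g' ⁻¹ᵁ U := inf_le_left
  letI := pbModule g' F e1
  haveI := pbModule_isScalarTower g' F e1
  have hbc := isBaseChange_pbSec g' hU' hU e1 F
  have h0 : FlatCA.RelFinitePresentation Γ(S, V) Γ(X, U) Γ(F, U) := h
  have h1 : FlatCA.RelFinitePresentation Γ(S', V') Γ(X', g' ⁻¹ᵁ U ⊓ f' ⁻¹ᵁ V')
      (Γ(X', g' ⁻¹ᵁ U ⊓ f' ⁻¹ᵁ V') ⊗[Γ(X, U)] Γ(F, U)) := relFP_baseChange _ h0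
  exact relFP_of_linearEquiv hbc.equiv h1

/-- **S9744.** -/
theorem s9744 [LocallyOfFiniteType f] (F : X.Modules) [F.IsQuasicoherent]
    (hc : IsPullback g' f' f g) (hF : Flatn.IsRelFP f F) :
    Flatn.IsRelFP f' ((Scheme.Modules.pullback g').obj F) := by
  have hall := (isRelFP_iff f F).1 hF
  refine isRelFP_of_forall_exists _ _
    {V' : S'.affineOpens | ∃ V : S.affineOpens, (V' : S'.Opens) ≤ g ⁻¹ᵁ (V : S.Opens)} ?_ ?_
  · rw [eq_top_iff]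
    intro s' _
    obtain ⟨V, hV, hsV, -⟩ := exists_isAffineOpen_mem_and_subset (x := g s') (U := ⊤) trivial
    obtain ⟨V', hV', hsV', hV'V⟩ :=
      exists_isAffineOpen_mem_and_subset (x := s') (U := g ⁻¹ᵁ V) hsV
    simp only [Opens.mem_iSup]
    exact ⟨⟨V', hV'⟩, ⟨⟨V, hV⟩, fun y hy => hV'V hy⟩, hsV'⟩
  · rintro V' ⟨V, hV'V⟩ x' hx'
    have hgx : g' x' ∈ f ⁻¹ᵁ (V : S.Opens) := by
      change f (g' x') ∈ (V : S.Opens)
      have h1 : f (g' x') = g (f' x') := by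
        have := congr($(hc.w) x')
        simpa using this
      rw [h1]
      exact hV'V hx'
    obtain ⟨U, hU, hxU, hUV⟩ :=
      exists_isAffineOpen_mem_and_subset (x := g' x') (U := f ⁻¹ᵁ (V : S.Opens)) hgx
    have hUV' : U ≤ f ⁻¹ᵁ (V : S.Opens) := fun y hy => hUV hy
    have hU' := isAffineOpen_inf_of_isPullback f f' g' g hc hV'V hUV' V.2 V'.2 hU
    exact ⟨⟨g' ⁻¹ᵁ U ⊓ f' ⁻¹ᵁ (V' : S'.Opens), hU'⟩, ⟨hxU, hx'⟩, inf_le_right,
      relFPOn_baseChange f f' g' g hc F hV'V hUV' V.2 V'.2 hU hU' (hall ⟨U, hU⟩ V hUV')⟩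

end BaseChange

section Finite

variable {X Y S : Scheme.{u}}

/-- finite direct image on affine pieces. -/
theorem relFPOn_push_iff (π : X ⟶ Y) (g : Y ⟶ S) [IsFinite π] [LocallyOfFiniteType g]
    (F : X.Modules) {U : Y.Opens} {V : S.Opens} (hU : IsAffineOpen U) (hV : IsAffineOpen V)
    (e : U ≤ g ⁻¹ᵁ V) (e' : π ⁻¹ᵁ U ≤ (π ≫ g) ⁻¹ᵁ V) (hU' : IsAffineOpen (π ⁻¹ᵁ U)) :
    Flatn.RelFPOn g ((Scheme.Modules.pushforward π).obj F) ⟨U, hU⟩ ⟨V, hV⟩ e ↔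
      Flatn.RelFPOn (π ≫ g) F ⟨π ⁻¹ᵁ U, hU'⟩ ⟨V, hV⟩ e' := by
  letI i1 : Algebra Γ(S, V) Γ(Y, U) := (g.appLE V U e).hom.toAlgebra
  letI i2 : Algebra Γ(S, V) Γ(X, π ⁻¹ᵁ U) := ((π ≫ g).appLE V (π ⁻¹ᵁ U) e').hom.toAlgebra
  have hRA : Algebra.FiniteType Γ(S, V) Γ(Y, U) :=
    LocallyOfFiniteType.finiteType_appLE g hV hU e
  have hcomp : algebraMap Γ(S, V) Γ(X, π ⁻¹ᵁ U) =
      (π.app U).hom.comp (algebraMap Γ(S, V) Γ(Y, U)) := by
    change ((π ≫ g).appLE V (π ⁻¹ᵁ U) e').hom = (π.app U).hom.comp (g.appLE V U e).hom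
    rw [← CommRingCat.hom_comp, Scheme.Hom.app_eq_appLE, Scheme.Hom.appLE_comp_appLE]
  exact @relFP_iff_of_finite Γ(S, V) Γ(Y, U) Γ(X, π ⁻¹ᵁ U)
    Γ((Scheme.Modules.pushforward π).obj F, U) _ _ _ _ _ _ _
    (inferInstanceAs (Module Γ(X, π ⁻¹ᵁ U) Γ(F, π ⁻¹ᵁ U))) (π.app U).hom
    (π.finite_app U hU) hRA hcomp (fun _ _ => rfl)

/-- **S9743.** -/
theorem s9743 (π : X ⟶ Y) (g : Y ⟶ S) [IsFinite π] [LocallyOfFiniteType g]
    (F : X.Modules) [F.IsQuasicoherent] :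
    Flatn.IsRelFP (π ≫ g) F ↔ Flatn.IsRelFP g ((Scheme.Modules.pushforward π).obj F) := by
  haveI : ((Scheme.Modules.pushforward π).obj F).IsQuasicoherent := qc_pushforward π F
  haveI : LocallyOfFiniteType (π ≫ g) := inferInstance
  constructor
  · intro hF
    have hall := (isRelFP_iff (π ≫ g) F).1 hF
    refine isRelFP_of_forall_exists _ _ Set.univ (iSup_univ_affineOpens S) ?_
    intro V _ y hy
    obtain ⟨U, hU, hyU, hUV⟩ :=
      exists_isAffineOpen_mem_and_subset (x := y) (U := g ⁻¹ᵁ (V : S.Opens)) hy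
    have e : U ≤ g ⁻¹ᵁ (V : S.Opens) := fun z hz => hUV hz
    have e' : π ⁻¹ᵁ U ≤ (π ≫ g) ⁻¹ᵁ (V : S.Opens) := fun z hz => e hz
    have hU' : IsAffineOpen (π ⁻¹ᵁ U) := hU.preimage π
    exact ⟨⟨U, hU⟩, hyU, e, (relFPOn_push_iff π g F hU V.2 e e' hU').2 (hall ⟨_, hU'⟩ V e')⟩
  · intro hF
    have hall := (isRelFP_iff g ((Scheme.Modules.pushforward π).obj F)).1 hF
    refine isRelFP_of_forall_exists _ _ Set.univ (iSup_univ_affineOpens S) ?_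
    intro V _ x hx
    obtain ⟨U, hU, hyU, hUV⟩ :=
      exists_isAffineOpen_mem_and_subset (x := π x) (U := g ⁻¹ᵁ (V : S.Opens)) hx
    have e : U ≤ g ⁻¹ᵁ (V : S.Opens) := fun z hz => hUV hz
    have e' : π ⁻¹ᵁ U ≤ (π ≫ g) ⁻¹ᵁ (V : S.Opens) := fun z hz => e hz
    have hU' : IsAffineOpen (π ⁻¹ᵁ U) := hU.preimage π
    exact ⟨⟨π ⁻¹ᵁ U, hU'⟩, hyU, e', (relFPOn_push_iff π g F hU V.2 e e' hU').1 (hall ⟨U, hU⟩ V e)⟩

end Finite

section Exact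

variable {X S : Scheme.{u}} (f : X ⟶ S)

/-- **S9747.** -/
theorem s9747 [LocallyOfFiniteType f] (E : ShortComplex X.Modules) (hE : E.ShortExact)
    [E.X₁.IsQuasicoherent] [E.X₂.IsQuasicoherent] [E.X₃.IsQuasicoherent]
    (h₁ : Flatn.IsRelFP f E.X₁) (h₃ : Flatn.IsRelFP f E.X₃) : Flatn.IsRelFP f E.X₂ := by
  have a1 := (isRelFP_iff f E.X₁).1 h₁
  have a3 := (isRelFP_iff f E.X₃).1 h₃
  rw [isRelFP_iff]
  intro U V h
  letI := (f.appLE (V : S.Opens) (U : X.Opens) h).hom.toAlgebra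
  haveI := hE.mono_f
  haveI := hE.epi_g
  have b1 : FlatCA.RelFinitePresentation Γ(S, (V : S.Opens)) Γ(X, (U : X.Opens))
      Γ(E.X₁, (U : X.Opens)) := a1 U V h
  have b3 : FlatCA.RelFinitePresentation Γ(S, (V : S.Opens)) Γ(X, (U : X.Opens))
      Γ(E.X₃, (U : X.Opens)) := a3 U V h
  have b2 : FlatCA.RelFinitePresentation Γ(S, (V : S.Opens)) Γ(X, (U : X.Opens))
      Γ(E.X₂, (U : X.Opens)) :=
    relFP_of_exact (appLinear E.f U) (appLinear E.g U) (mono_app E.f U)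
      (epi_app_affine inferInstance inferInstance E.g U.2)
      (fun x hx => exact_sections E hE U x hx)
      (fun y => by
        change E.g.app U (E.f.app U y) = 0
        rw [← comp_app', E.zero, zero_app']) b1 b3
  exact b2

/-- **S9748.** -/
theorem s9748 [LocallyOfFiniteType f] (E : ShortComplex X.Modules) (hE : E.ShortExact)
    [E.X₁.IsQuasicoherent] [E.X₂.IsQuasicoherent] [E.X₃.IsQuasicoherent]
    (h₁ : E.X₁.IsFiniteType) (h₂ : Flatn.IsRelFP f E.X₂) : Flatn.IsRelFP f E.X₃ := by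
  have a2 := (isRelFP_iff f E.X₂).1 h₂
  rw [isRelFP_iff]
  intro U V h
  letI := (f.appLE (V : S.Opens) (U : X.Opens) h).hom.toAlgebra
  haveI := hE.epi_g
  have b2 : FlatCA.RelFinitePresentation Γ(S, (V : S.Opens)) Γ(X, (U : X.Opens))
      Γ(E.X₂, (U : X.Opens)) := a2 U V h
  have b3 : FlatCA.RelFinitePresentation Γ(S, (V : S.Opens)) Γ(X, (U : X.Opens))
      Γ(E.X₃, (U : X.Opens)) :=
    relFP_of_exact_of_finite (appLinear E.f U) (appLinear E.g U)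
      (epi_app_affine inferInstance inferInstance E.g U.2)
      (fun x hx => exact_sections E hE U x hx)
      (fun y => by
        change E.g.app U (E.f.app U y) = 0
        rw [← comp_app', E.zero, zero_app'])
      (finite_sections_of_isFiniteType E.X₁ h₁ U.2) b2
  exact b3

/-- **S9749.** -/
theorem s9749 [LocallyOfFiniteType f] (F F' : X.Modules) [F.IsQuasicoherent] [F'.IsQuasicoherent]
    (h : Flatn.IsRelFP f (F ⊞ F')) : Flatn.IsRelFP f F ∧ Flatn.IsRelFP f F' := by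
  haveI : (F ⊞ F').IsQuasicoherent := Groth.Agent.LD.SC.qc_biprod F F' inferInstance inferInstance
  have a := (isRelFP_iff f (F ⊞ F')).1 h
  constructor
  · rw [isRelFP_iff]
    intro U V e
    letI := (f.appLE (V : S.Opens) (U : X.Opens) e).hom.toAlgebra
    have b : FlatCA.RelFinitePresentation Γ(S, (V : S.Opens)) Γ(X, (U : X.Opens))
        Γ(F ⊞ F', (U : X.Opens)) := a U V e
    have c : FlatCA.RelFinitePresentation Γ(S, (V : S.Opens)) Γ(X, (U : X.Opens))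
        Γ(F, (U : X.Opens)) :=
      relFP_of_retract (appLinear (biprod.inl : F ⟶ F ⊞ F') U) (appLinear (biprod.fst : F ⊞ F' ⟶ F) U)
        (fun y => by
          change (biprod.fst : F ⊞ F' ⟶ F).app U ((biprod.inl : F ⟶ F ⊞ F').app U y) = y
          rw [← comp_app', biprod.inl_fst, id_app']) b
    exact c
  · rw [isRelFP_iff]
    intro U V e
    letI := (f.appLE (V : S.Opens) (U : X.Opens) e).hom.toAlgebra
    have b : FlatCA.RelFinitePresentation Γ(S, (V : S.Opens)) Γ(X, (U : X.Opens))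
        Γ(F ⊞ F', (U : X.Opens)) := a U V e
    have c : FlatCA.RelFinitePresentation Γ(S, (V : S.Opens)) Γ(X, (U : X.Opens))
        Γ(F', (U : X.Opens)) :=
      relFP_of_retract (appLinear (biprod.inr : F' ⟶ F ⊞ F') U) (appLinear (biprod.snd : F ⊞ F' ⟶ F') U)
        (fun y => by
          change (biprod.snd : F ⊞ F' ⟶ F').app U ((biprod.inr : F' ⟶ F ⊞ F').app U y) = y
          rw [← comp_app', biprod.inr_snd, id_app']) b
    exact c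

end Exact

end Groth.Agent.LD.RelFP
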