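import Mathlib
import Groth.Prelude.Def_FlatCA
import Groth.Agent.H4.RelFP2
import Groth.Agent.H4.RelFPBC
import Groth.Agent.S6992
import Groth.Agent.S6993
import Groth.Agent.S7005
import Groth.Agent.S12083

/-! # Ring-level calculus of `FlatCA.RelFinitePresentation`

Wrappers around helper4's ring-level results (S6992, S6993, S7005, S12083, `fp_indep`) phrased with the
prelude predicate `FlatCA.RelFinitePresentation R S N`.
-/

universe u
open TensorProduct

namespace Groth.Agent.LD.RelFP

/-- finite presentation through a ring map is transported along a linear equivalence. -/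
theorem fp_compHom_of_equiv {P S N N' : Type*} [CommRing P] [CommRing S] (γ : P →+* S)
    [AddCommGroup N] [Module S N] [AddCommGroup N'] [Module S N'] (e : N ≃ₗ[S] N')
    (h : @Module.FinitePresentation P N _ _ (Module.compHom N γ)) :
    @Module.FinitePresentation P N' _ _ (Module.compHom N' γ) := by
  letI : Module P N := Module.compHom N γ
  letI : Module P N' := Module.compHom N' γ
  let e' : N ≃ₗ[P] N' :=
    { toFun := e
      invFun := e.symm
      map_add' := e.map_add
      map_smul' := fun a x => e.map_smul (γ a) x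
      left_inv := e.left_inv
      right_inv := e.right_inv }
  exact Module.FinitePresentation.of_equiv e'

section Basic
variable {R S : Type u} [CommRing R] [CommRing S] [Algebra R S]

/-- relative finite presentation is transported along a linear equivalence. -/
theorem relFP_of_linearEquiv {N N' : Type u} [AddCommGroup N] [Module S N] [AddCommGroup N']
    [Module S N'] (e : N ≃ₗ[S] N') (h : FlatCA.RelFinitePresentation R S N) :
    FlatCA.RelFinitePresentation R S N' := by
  obtain ⟨n, φ, hφ, hN⟩ := h
  exact ⟨n, φ, hφ, fp_compHom_of_equiv φ.toRingHom e hN⟩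

/-- **independence of the presentation.** -/
theorem relFP_iff_of_presentation (N : Type u) [AddCommGroup N] [Module S N] {k : ℕ}
    (β : MvPolynomial (Fin k) R →ₐ[R] S) (hβ : Function.Surjective β) :
    FlatCA.RelFinitePresentation R S N ↔
      @Module.FinitePresentation (MvPolynomial (Fin k) R) N _ _ (Module.compHom N β.toRingHom) := by
  constructor
  · rintro ⟨n, φ, hφ, h⟩
    exact (Groth.Agent.H4.RelFP.fp_indep (T := MvPolynomial (Fin n) R) N φ hφ β hβ).1 h
  · intro h
    exact ⟨k, β, hβ, h⟩

theorem finiteType_of_relFP {N : Type u} [AddCommGroup N] [Module S N]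
    (h : FlatCA.RelFinitePresentation R S N) : Algebra.FiniteType R S := by
  obtain ⟨n, φ, hφ, -⟩ := h
  exact Algebra.FiniteType.iff_quotient_mvPolynomial''.mpr ⟨n, φ, hφ⟩

/-- **extensions**: the middle term of a short exact sequence with relatively finitely presented
outer terms is relatively finitely presented. -/
theorem relFP_of_exact {N₁ N₂ N₃ : Type u} [AddCommGroup N₁] [Module S N₁] [AddCommGroup N₂]
    [Module S N₂] [AddCommGroup N₃] [Module S N₃] (i : N₁ →ₗ[S] N₂) (p : N₂ →ₗ[S] N₃)
    (hi : Function.Injective i) (hp : Function.Surjective p)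
    (hex : ∀ x, p x = 0 → ∃ y, i y = x) (hpi : ∀ y, p (i y) = 0)
    (h₁ : FlatCA.RelFinitePresentation R S N₁) (h₃ : FlatCA.RelFinitePresentation R S N₃) :
    FlatCA.RelFinitePresentation R S N₂ := by
  obtain ⟨n, φ, hφ, hN₃⟩ := h₃
  have hN₁ := (relFP_iff_of_presentation N₁ φ hφ).1 h₁
  refine ⟨n, φ, hφ, ?_⟩
  letI m1 : Module (MvPolynomial (Fin n) R) N₁ := Module.compHom N₁ φ.toRingHom
  letI m2 : Module (MvPolynomial (Fin n) R) N₂ := Module.compHom N₂ φ.toRingHom
  letI m3 : Module (MvPolynomial (Fin n) R) N₃ := Module.compHom N₃ φ.toRingHom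
  haveI : Module.FinitePresentation (MvPolynomial (Fin n) R) N₁ := hN₁
  haveI : Module.FinitePresentation (MvPolynomial (Fin n) R) N₃ := hN₃
  let i' : N₁ →ₗ[MvPolynomial (Fin n) R] N₂ :=
    { toFun := i
      map_add' := i.map_add
      map_smul' := fun a x => i.map_smul (φ a) x }
  let p' : N₂ →ₗ[MvPolynomial (Fin n) R] N₃ :=
    { toFun := p
      map_add' := p.map_add
      map_smul' := fun a x => p.map_smul (φ a) x }
  have hrange : LinearMap.range i' = LinearMap.ker p' := by
    ext x
    constructor
    · rintro ⟨y, rfl⟩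
      exact hpi y
    · intro hx
      exact hex x hx
  let e : N₁ ≃ₗ[MvPolynomial (Fin n) R] LinearMap.ker p' :=
    (LinearEquiv.ofInjective i' hi).trans (LinearEquiv.ofEq _ _ hrange)
  haveI : Module.FinitePresentation (MvPolynomial (Fin n) R) (LinearMap.ker p') :=
    Module.FinitePresentation.of_equiv e
  exact Module.finitePresentation_of_ker p' hp

/-- **quotients by finite submodules**. -/
theorem relFP_of_exact_of_finite {N₁ N₂ N₃ : Type u} [AddCommGroup N₁] [Module S N₁]
    [AddCommGroup N₂] [Module S N₂] [AddCommGroup N₃] [Module S N₃] (i : N₁ →ₗ[S] N₂)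
    (p : N₂ →ₗ[S] N₃) (hp : Function.Surjective p)
    (hex : ∀ x, p x = 0 → ∃ y, i y = x) (hpi : ∀ y, p (i y) = 0)
    (h₁ : Module.Finite S N₁) (h₂ : FlatCA.RelFinitePresentation R S N₂) :
    FlatCA.RelFinitePresentation R S N₃ := by
  classical
  obtain ⟨n, φ, hφ, hN₂⟩ := h₂
  refine ⟨n, φ, hφ, ?_⟩
  letI m1 : Module (MvPolynomial (Fin n) R) N₁ := Module.compHom N₁ φ.toRingHom
  letI m2 : Module (MvPolynomial (Fin n) R) N₂ := Module.compHom N₂ φ.toRingHom
  letI m3 : Module (MvPolynomial (Fin n) R) N₃ := Module.compHom N₃ φ.toRingHom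
  haveI : Module.FinitePresentation (MvPolynomial (Fin n) R) N₂ := hN₂
  let p' : N₂ →ₗ[MvPolynomial (Fin n) R] N₃ :=
    { toFun := p
      map_add' := p.map_add
      map_smul' := fun a x => p.map_smul (φ a) x }
  refine Module.finitePresentation_of_surjective p' hp ?_
  -- the kernel is generated by the images of generators of `N₁`
  obtain ⟨s, hs⟩ := h₁.fg_top
  refine ⟨s.image i, ?_⟩
  apply le_antisymm
  · rw [Submodule.span_le]
    intro x hx
    rw [Finset.coe_image] at hx
    obtain ⟨y, -, rfl⟩ := hx
    exact hpi y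
  · intro x hx
    obtain ⟨y, rfl⟩ := hex x hx
    clear hx
    have hy : y ∈ Submodule.span S (s : Set N₁) := by rw [hs]; trivial
    induction hy using Submodule.span_induction with
    | mem z hz => exact Submodule.subset_span (Finset.mem_coe.2 (Finset.mem_image_of_mem _ hz))
    | zero => rw [map_zero]; exact Submodule.zero_mem _
    | add a b _ _ ha hb => rw [map_add]; exact Submodule.add_mem _ ha hb
    | smul c a _ ha =>
      obtain ⟨c', rfl⟩ := hφ c
      rw [map_smul]
      exact Submodule.smul_mem _ c' ha

/-- **direct summands**. -/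
theorem relFP_of_retract {N N₁ : Type u} [AddCommGroup N] [Module S N] [AddCommGroup N₁]
    [Module S N₁] (i : N₁ →ₗ[S] N) (p : N →ₗ[S] N₁) (hpi : ∀ y, p (i y) = y)
    (h : FlatCA.RelFinitePresentation R S N) : FlatCA.RelFinitePresentation R S N₁ := by
  have hS : Module.Finite S N := by
    obtain ⟨n, φ, hφ, hN⟩ := h
    letI : Module (MvPolynomial (Fin n) R) N := Module.compHom N φ.toRingHom
    haveI : Module.FinitePresentation (MvPolynomial (Fin n) R) N := hN
    obtain ⟨s, hs⟩ := (inferInstance : Module.Finite (MvPolynomial (Fin n) R) N).fg_top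
    refine ⟨⟨s, ?_⟩⟩
    rw [eq_top_iff]
    intro x hx0
    clear hx0
    have hx : x ∈ Submodule.span (MvPolynomial (Fin n) R) (s : Set N) := by rw [hs]; trivial
    induction hx using Submodule.span_induction with
    | mem z hz => exact Submodule.subset_span hz
    | zero => exact Submodule.zero_mem _
    | add a b _ _ ha hb => exact Submodule.add_mem _ ha hb
    | smul c a _ ha => exact Submodule.smul_mem _ (φ c) ha
  -- `0 → N → N → N₁ → 0` with first map `id - i ∘ p`
  refine relFP_of_exact_of_finite (LinearMap.id - i.comp p) p (fun y => ⟨i y, hpi y⟩) ?_ ?_ hS h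
  · intro x hx
    refine ⟨x, ?_⟩
    simp [hx]
  · intro y
    simp [hpi]

end Basic

section Wrappers

/-- **S7005**: base change along a ring map of finite presentation. -/
theorem relFP_tensor_of_fp {R A A' : Type u} [CommRing R] [CommRing A] [CommRing A'] [Algebra R A]
    [Algebra A A'] [Algebra R A'] [IsScalarTower R A A'] [Algebra.FinitePresentation A A']
    (M : Type u) [AddCommGroup M] [Module A M] (h : FlatCA.RelFinitePresentation R A M) :
    FlatCA.RelFinitePresentation R A' (A' ⊗[A] M) := by
  haveI hRA : Algebra.FiniteType R A := finiteType_of_relFP h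
  obtain ⟨n, α, hα, hM⟩ := h
  haveI hAA' : Algebra.FiniteType A A' := inferInstance
  haveI hRA' : Algebra.FiniteType R A' := Algebra.FiniteType.trans hRA hAA'
  obtain ⟨k, γ, hγ⟩ := Algebra.FiniteType.iff_quotient_mvPolynomial''.mp hRA'
  exact ⟨k, γ, hγ, Groth.Agent.S7005.result M α hα hM γ hγ⟩

/-- **S6993**: transitivity along a base of finite presentation. -/
theorem relFP_trans {R A B : Type u} [CommRing R] [CommRing A] [CommRing B] [Algebra R A]
    [Algebra A B] [Algebra R B] [IsScalarTower R A B] [Algebra.FinitePresentation R A]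
    (M : Type u) [AddCommGroup M] [Module B M] (h : FlatCA.RelFinitePresentation A B M) :
    FlatCA.RelFinitePresentation R B M := by
  haveI hAB : Algebra.FiniteType A B := finiteType_of_relFP h
  obtain ⟨n, α, hα, hM⟩ := h
  haveI hRA : Algebra.FiniteType R A := inferInstance
  haveI hRB : Algebra.FiniteType R B := Algebra.FiniteType.trans hRA hAB
  obtain ⟨k, β, hβ⟩ := Algebra.FiniteType.iff_quotient_mvPolynomial''.mp hRB
  exact ⟨k, β, hβ, Groth.Agent.S6993.result M α hα β hβ hM⟩

/-- **S12083**: arbitrary base change. -/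
theorem relFP_baseChange {R A R' A' : Type u} [CommRing R] [CommRing A] [CommRing R'] [CommRing A']
    [Algebra R A] [Algebra R R'] [Algebra A A'] [Algebra R' A'] [Algebra R A'] [IsScalarTower R A A']
    [IsScalarTower R R' A'] [Algebra.IsPushout R A R' A'] (M : Type u) [AddCommGroup M] [Module A M]
    (h : FlatCA.RelFinitePresentation R A M) :
    FlatCA.RelFinitePresentation R' A' (A' ⊗[A] M) := by
  haveI hRA : Algebra.FiniteType R A := finiteType_of_relFP h
  obtain ⟨n, α, hα, hM⟩ := h
  have hψ := (Groth.Agent.H4.RelFPBC.pushout_presentation (R' := R') (A' := A') α hα).1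
  exact ⟨n, _, hψ, Groth.Agent.S12083.result M α hα hM _ hψ⟩

/-- **S6992**: finite extensions, in ring-hom form. -/
theorem relFP_iff_of_finite {R A B M : Type u} [CommRing R] [CommRing A] [CommRing B] [AddCommGroup M]
    [Algebra R A] [Algebra R B] [Module A M] [Module B M] (φ : A →+* B) (hφ : φ.Finite)
    (hRA : Algebra.FiniteType R A) (hcomp : algebraMap R B = φ.comp (algebraMap R A))
    (hsm : ∀ (a : A) (m : M), a • m = φ a • m) :
    FlatCA.RelFinitePresentation R A M ↔ FlatCA.RelFinitePresentation R B M := by
  letI := φ.toAlgebra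
  haveI : IsScalarTower R A B := .of_algebraMap_eq' hcomp
  haveI : IsScalarTower A B M := ⟨fun a b m => by
    rw [hsm a (b • m), ← mul_smul]; rfl⟩
  haveI : Module.Finite A B := hφ
  haveI hAB : Algebra.FiniteType A B := inferInstance
  haveI hRB : Algebra.FiniteType R B := Algebra.FiniteType.trans hRA hAB
  obtain ⟨n, α, hα⟩ := Algebra.FiniteType.iff_quotient_mvPolynomial''.mp hRA
  obtain ⟨k, β, hβ⟩ := Algebra.FiniteType.iff_quotient_mvPolynomial''.mp hRB
  rw [relFP_iff_of_presentation M α hα, relFP_iff_of_presentation M β hβ]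
  exact Groth.Agent.S6992.result M α hα β hβ

end Wrappers

end Groth.Agent.LD.RelFP
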