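import Groth.Agent.H4.RPC25
import Groth.Agent.Lib.Lead.RelFP.Ring
import Groth.Agent.Lib.Lead.QC.Pullback
import Groth.Agent.Lib.Lead.QC.Push
import Groth.Agent.Lib.Lead.QC.Gen
import Groth.Agent.Lib.Lead.QC.Ext
import Groth.Agent.Lib.Lead.QC.FinType
import Groth.Agent.Lib.Lead.QC.BiprodSec
import Groth.Agent.Lib.Lead.SC.Efface

/-! # Modules finitely presented relative to a base (`Flatn.IsRelFP`)

Geometric forms of helper4's ring-level results, through the characterisation on all pairs of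
affine opens (obtained from helper4's chart calculus for relative pseudo-coherence, S7212).
-/

set_option autoImplicit false
universe u
open CategoryTheory CategoryTheory.Limits AlgebraicGeometry Opposite TopologicalSpace TensorProduct

namespace Groth.Agent.LD.RelFP

section AllPairs

attribute [local instance] HasDerivedCategory.standard
open DerivedCategory
open Groth.Agent.LD.QC
open Groth.Agent.H4.PSch2 Groth.Agent.H4.RPC2 Groth.Agent.H4.FAmp5 Groth.Agent.H4.TilD9 Groth.Agent.H4.TilD10 Groth.Agent.H4.TilD11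
open Groth.Agent.H4.RPC2b Groth.Agent.H4.RPC3 Groth.Agent.H4.RPC7 Groth.Agent.H4.RPC8 Groth.Agent.H4.PCS7
open Groth.Agent.H4.RPC9 Groth.Agent.H4.RPC10 Groth.Agent.H4.RPC11 Groth.Agent.H4.RPC12
open Groth.Agent.H4.RPC13 Groth.Agent.H4.RPC14 Groth.Agent.H4.RPC15 Groth.Agent.H4.PCS4 Groth.Agent.H4.PCS8 Pretriangulated
open Groth.Agent.H4.NT7 Groth.Agent.H4.RPC6 Groth.Agent.H4.RPC19 Groth.Agent.H4.RPC20 Groth.Agent.H4.RPC21
open Groth.Agent.H4.RPC22 Groth.Agent.H4.RPC17 Groth.Agent.H4.RPC23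
open Groth.Agent.H4.RPC25 Groth.Agent.H4.PC Groth.Agent.H4.RelPC Groth.Agent.H4.RPC16

variable {X S : Scheme.{u}} (f : X ⟶ S)

/-- **relative finite presentation can be tested on every pair of affine opens.** -/
theorem relFPOn_of_isRelFP [LocallyOfFiniteType f] (F : X.Modules) [F.IsQuasicoherent]
    (hF : Flatn.IsRelFP f F) (U : X.affineOpens) (V : S.affineOpens)
    (h : (U : X.Opens) ≤ f ⁻¹ᵁ (V : S.Opens)) : Flatn.RelFPOn f F U V h := by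
  have hq : Coh.IsQCoh F := inferInstance
  have H : DerSch.IsPseudoCoherentRel f (-1) (DCoh.inD X F) :=
    (Groth.Agent.H4.RPC25.S7212 f F).2.2.2 ⟨hq, hF⟩
  rw [rel_iff_forall_chart] at H
  obtain ⟨n, φ, hφ⟩ := exists_isChart f (U : X.Opens) (V : S.Opens) h
    (LocallyOfFiniteType.finiteType_appLE f V.2 U.2 h)
  haveI := isClosedImmersion_gImm (U : X.Opens) φ U.2 hφ.1
  have h1 := (chart_negOne_iff F U.2 φ).1 (H U V h n φ hφ inferInstance)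
  letI := (f.appLE (V : S.Opens) (U : X.Opens) h).hom.toAlgebra
  exact ⟨n, { φ with commutes' := fun r => congr($(hφ.2) r) }, hφ.1, h1⟩

end AllPairs

section General

variable {X S : Scheme.{u}}

lemma iSup_univ_affineOpens (S : Scheme.{u}) :
    (⨆ V ∈ (Set.univ : Set S.affineOpens), (V : S.Opens)) = ⊤ := by
  simp only [Set.mem_univ, iSup_pos]
  exact iSup_affineOpens_eq_top S

/-- a pointwise criterion for relative finite presentation. -/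
theorem isRelFP_of_forall_exists (f : X ⟶ S) (F : X.Modules) (𝒱 : Set S.affineOpens)
    (h𝒱 : (⨆ V ∈ 𝒱, (V : S.Opens)) = ⊤)
    (H : ∀ V ∈ 𝒱, ∀ x : X, x ∈ f ⁻¹ᵁ (V : S.Opens) → ∃ U : X.affineOpens, x ∈ (U : X.Opens) ∧
      ∃ h : (U : X.Opens) ≤ f ⁻¹ᵁ (V : S.Opens), Flatn.RelFPOn f F U V h) :
    Flatn.IsRelFP f F := by
  refine ⟨𝒱, h𝒱, fun V hV =>
    ⟨{U | ∃ h : (U : X.Opens) ≤ f ⁻¹ᵁ (V : S.Opens), Flatn.RelFPOn f F U V h}, ?_, ?_⟩⟩
  · apply le_antisymm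
    · exact iSup₂_le (fun U hU => hU.1)
    · intro x hx
      obtain ⟨U, hxU, h, hU⟩ := H V hV x hx
      simp only [Opens.mem_iSup]
      exact ⟨U, ⟨h, hU⟩, hxU⟩
  · rintro U ⟨h, hU⟩ h'
    exact hU

/-- **S9742.** -/
theorem isRelFP_iff (f : X ⟶ S) [LocallyOfFiniteType f] (F : X.Modules) [F.IsQuasicoherent] :
    Flatn.IsRelFP f F ↔
      ∀ (U : X.affineOpens) (V : S.affineOpens) (h : (U : X.Opens) ≤ f ⁻¹ᵁ (V : S.Opens)),
        Flatn.RelFPOn f F U V h := by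
  refine ⟨relFPOn_of_isRelFP f F, fun H =>
    isRelFP_of_forall_exists f F Set.univ (iSup_univ_affineOpens S) ?_⟩
  intro V _ x hx
  obtain ⟨W, hW, hxW, hWV⟩ :=
    exists_isAffineOpen_mem_and_subset (x := x) (U := f ⁻¹ᵁ (V : S.Opens)) hx
  exact ⟨⟨W, hW⟩, hxW, fun y hy => hWV hy, H _ _ _⟩

end General

section Pullback

open Groth.Agent.LD.QC

variable {X Y S : Scheme.{u}}

lemma comp_appLE_hom (f : X ⟶ Y) (g : Y ⟶ S) {W : X.Opens} {U : Y.Opens} {V : S.Opens}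
    (e1 : W ≤ f ⁻¹ᵁ U) (e2 : U ≤ g ⁻¹ᵁ V) (e3 : W ≤ (f ≫ g) ⁻¹ᵁ V) :
    ((f ≫ g).appLE V W e3).hom = (f.appLE U W e1).hom.comp (g.appLE V U e2).hom := by
  rw [← CommRingCat.hom_comp, Scheme.Hom.appLE_comp_appLE]

/-- pullback along a morphism locally of finite presentation, on affine opens. -/
theorem relFPOn_pullback (f : X ⟶ Y) (g : Y ⟶ S) [LocallyOfFinitePresentation f]
    (G : Y.Modules) [G.IsQuasicoherent] {W : X.Opens} {U : Y.Opens} {V : S.Opens}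
    (hW : IsAffineOpen W) (hU : IsAffineOpen U) (hV : IsAffineOpen V)
    (e1 : W ≤ f ⁻¹ᵁ U) (e2 : U ≤ g ⁻¹ᵁ V) (e3 : W ≤ (f ≫ g) ⁻¹ᵁ V)
    (h : Flatn.RelFPOn g G ⟨U, hU⟩ ⟨V, hV⟩ e2) :
    Flatn.RelFPOn (f ≫ g) ((Scheme.Modules.pullback f).obj G) ⟨W, hW⟩ ⟨V, hV⟩ e3 := by
  letI i1 : Algebra Γ(S, V) Γ(Y, U) := (g.appLE V U e2).hom.toAlgebra
  letI i2 : Algebra Γ(Y, U) Γ(X, W) := (f.appLE U W e1).hom.toAlgebra
  letI i3 : Algebra Γ(S, V) Γ(X, W) := ((f ≫ g).appLE V W e3).hom.toAlgebra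
  haveI : IsScalarTower Γ(S, V) Γ(Y, U) Γ(X, W) :=
    .of_algebraMap_eq' (comp_appLE_hom f g e1 e2 e3)
  haveI : Algebra.FinitePresentation Γ(Y, U) Γ(X, W) :=
    LocallyOfFinitePresentation.finitePresentation_appLE f hU hW e1
  letI := pbModule f G e1
  haveI := pbModule_isScalarTower f G e1
  have hbc := isBaseChange_pbSec f hW hU e1 G
  have h0 : FlatCA.RelFinitePresentation Γ(S, V) Γ(Y, U) Γ(G, U) := h
  have h1 : FlatCA.RelFinitePresentation Γ(S, V) Γ(X, W) (Γ(X, W) ⊗[Γ(Y, U)] Γ(G, U)) :=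
    relFP_tensor_of_fp _ h0
  exact relFP_of_linearEquiv hbc.equiv h1

/-- **S9745.** -/
theorem s9745 (f : X ⟶ Y) (g : Y ⟶ S) [LocallyOfFinitePresentation f] [LocallyOfFiniteType g]
    (G : Y.Modules) [G.IsQuasicoherent] (hG : Flatn.IsRelFP g G) :
    Flatn.IsRelFP (f ≫ g) ((Scheme.Modules.pullback f).obj G) := by
  have hall := (isRelFP_iff g G).1 hG
  refine isRelFP_of_forall_exists _ _ Set.univ (iSup_univ_affineOpens S) ?_
  intro V _ x hx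
  obtain ⟨U, hU, hxU, hUV⟩ :=
    exists_isAffineOpen_mem_and_subset (x := f x) (U := g ⁻¹ᵁ (V : S.Opens)) hx
  obtain ⟨W, hW, hxW, hWU⟩ := exists_isAffineOpen_mem_and_subset (x := x) (U := f ⁻¹ᵁ U) hxU
  have e1 : W ≤ f ⁻¹ᵁ U := fun y hy => hWU hy
  have e2 : U ≤ g ⁻¹ᵁ (V : S.Opens) := fun y hy => hUV hy
  have e3 : W ≤ (f ≫ g) ⁻¹ᵁ (V : S.Opens) := fun y hy => e2 (e1 hy)
  exact ⟨⟨W, hW⟩, hxW, e3, relFPOn_pullback f g G hW hU V.2 e1 e2 e3 (hall ⟨U, hU⟩ V e2)⟩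

/-- composition with a morphism locally of finite presentation, on affine opens. -/
theorem relFPOn_comp (f : X ⟶ Y) (g : Y ⟶ S) [LocallyOfFinitePresentation g]
    (F : X.Modules) {W : X.Opens} {U : Y.Opens} {V : S.Opens}
    (hW : IsAffineOpen W) (hU : IsAffineOpen U) (hV : IsAffineOpen V)
    (e1 : W ≤ f ⁻¹ᵁ U) (e2 : U ≤ g ⁻¹ᵁ V) (e3 : W ≤ (f ≫ g) ⁻¹ᵁ V)
    (h : Flatn.RelFPOn f F ⟨W, hW⟩ ⟨U, hU⟩ e1) :
    Flatn.RelFPOn (f ≫ g) F ⟨W, hW⟩ ⟨V, hV⟩ e3 := by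
  letI i1 : Algebra Γ(S, V) Γ(Y, U) := (g.appLE V U e2).hom.toAlgebra
  letI i2 : Algebra Γ(Y, U) Γ(X, W) := (f.appLE U W e1).hom.toAlgebra
  letI i3 : Algebra Γ(S, V) Γ(X, W) := ((f ≫ g).appLE V W e3).hom.toAlgebra
  haveI : IsScalarTower Γ(S, V) Γ(Y, U) Γ(X, W) :=
    .of_algebraMap_eq' (comp_appLE_hom f g e1 e2 e3)
  haveI : Algebra.FinitePresentation Γ(S, V) Γ(Y, U) :=
    LocallyOfFinitePresentation.finitePresentation_appLE g hV hU e2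
  have h0 : FlatCA.RelFinitePresentation Γ(Y, U) Γ(X, W) Γ(F, W) := h
  have h1 : FlatCA.RelFinitePresentation Γ(S, V) Γ(X, W) Γ(F, W) := relFP_trans _ h0
  exact h1

/-- **S9746.** -/
theorem s9746 (f : X ⟶ Y) (g : Y ⟶ S) [LocallyOfFiniteType f] [LocallyOfFinitePresentation g]
    (F : X.Modules) [F.IsQuasicoherent] (hF : Flatn.IsRelFP f F) :
    Flatn.IsRelFP (f ≫ g) F := by
  have hall := (isRelFP_iff f F).1 hF
  refine isRelFP_of_forall_exists _ _ Set.univ (iSup_univ_affineOpens S) ?_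
  intro V _ x hx
  obtain ⟨U, hU, hxU, hUV⟩ :=
    exists_isAffineOpen_mem_and_subset (x := f x) (U := g ⁻¹ᵁ (V : S.Opens)) hx
  obtain ⟨W, hW, hxW, hWU⟩ := exists_isAffineOpen_mem_and_subset (x := x) (U := f ⁻¹ᵁ U) hxU
  have e1 : W ≤ f ⁻¹ᵁ U := fun y hy => hWU hy
  have e2 : U ≤ g ⁻¹ᵁ (V : S.Opens) := fun y hy => hUV hy
  have e3 : W ≤ (f ≫ g) ⁻¹ᵁ (V : S.Opens) := fun y hy => e2 (e1 hy)
  exact ⟨⟨W, hW⟩, hxW, e3, relFPOn_comp f g F hW hU V.2 e1 e2 e3 (hall ⟨W, hW⟩ ⟨U, hU⟩ e1)⟩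

end Pullback

end Groth.Agent.LD.RelFP
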